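import Groth.Agent.Lib.AffStratVan4.Support
import Groth.Agent.Lib.AffStrat4.Basic
import Groth.Agent.S0440
import Groth.Agent.S1302
import Groth.Agent.Lib.ModM1.Push
import Mathlib

/-!
# Vanishing of cohomology above the affine stratification number
-/

set_option autoImplicit false
set_option linter.style.haveILetI false
set_option backward.isDefEq.respectTransparency false
set_option backward.isDefEq.respectTransparency.types false

universe u

open CategoryTheory CategoryTheory.Limits AlgebraicGeometry TopologicalSpace

namespace Groth.Agent.AffStratVan4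

open Groth.Agent

variable {X : Scheme.{u}}

theorem subsingleton_HH_congr {M N : X.Modules} (e : M ≅ N) (p : ℕ)
    (h : Subsingleton (Coh.HH X M p)) : Subsingleton (Coh.HH X N p) := by
  rw [CohFound.subsingleton_HH_iff] at h ⊢
  exact @Equiv.subsingleton _ _ (CohFound.mpEquiv ((CohFound.abF X).mapIso e) p ⊤).symm.toEquiv h

/-- An affine stratum which is open gives an affine open with affine inclusion. -/
theorem affine_open_stratum {Z : Scheme.{u}} (ι : Z ⟶ X) [IsImmersion ι] [IsAffine Z] [IsAffineHom ι]
    (U : X.Opens) (h : Set.range ι = (U : Set X)) : IsAffine U ∧ IsAffineHom U.ι := by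
  have hr : Set.range ι ⊆ Set.range U.ι := by rw [Scheme.Opens.range_ι, h]
  let t := IsOpenImmersion.lift U.ι ι hr
  have ht : t ≫ U.ι = ι := IsOpenImmersion.lift_fac _ _ _
  haveI : IsImmersion t := by
    haveI : IsImmersion (t ≫ U.ι) := by rw [ht]; infer_instance
    exact IsImmersion.of_comp t U.ι
  have hsurj : Function.Surjective t := by
    intro x
    obtain ⟨z, hz⟩ := h.ge x.2
    refine ⟨z, U.ι.isOpenEmbedding.injective ?_⟩
    rw [← Scheme.Hom.comp_apply, ht, hz]
    rfl
  haveI : IsClosedImmersion t :=
    IsClosedImmersion.of_isPreimmersion _ (by rw [hsurj.range_eq]; exact isClosed_univ)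
  haveI : Surjective t := ⟨hsurj⟩
  have hthick : MoreMor.IsThickening t := ⟨inferInstance, inferInstance⟩
  refine ⟨S0440.result t hsurj, ?_⟩
  exact (S1302.result t (𝟙 X) ι U.ι hthick ⟨inferInstance, inferInstance⟩
    (by rw [ht, Category.comp_id])).1 inferInstance

/-- Cohomology of quasi-coherent modules vanishes above the affine stratification number. -/
theorem vanish : ∀ (n : ℕ) (X : Scheme.{u}), MoreMor.HasAffineStratification X n →
    ∀ (F : X.Modules), Coh.IsQCoh F → ∀ p, n < p → Subsingleton (Coh.HH X F p) := by
  intro n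
  induction n with
  | zero =>
    intro X hX F hF p hp
    haveI : F.IsQuasicoherent := hF
    obtain ⟨s, -, hs⟩ := hX
    obtain ⟨Z, ι, hι, hZ, hιa, hr⟩ := hs 0
    have hsurj : Function.Surjective ι := fun x =>
      hr.ge (show x ∈ {y | s y = 0} from Subsingleton.elim (α := Fin 1) (s x) 0)
    haveI : IsClosedImmersion ι :=
      IsClosedImmersion.of_isPreimmersion _ (by rw [hsurj.range_eq]; exact isClosed_univ)
    haveI := hZ
    haveI : IsAffine X := S0440.result ι hsurj
    exact CohFound.subsingleton_HH_affine F p (by omega)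
  | succ n ih =>
    intro X hX F hF p hp
    obtain ⟨_, _⟩ := AffStrat4.qcqs_of hX
    haveI : F.IsQuasicoherent := hF
    obtain ⟨s, hcl, hs⟩ := hX
    let L : Fin (n + 1 + 1) := Fin.last (n + 1)
    let U : X.Opens := ⟨{x | s x = L}, by
      have : {x | s x = L} = {x | s x ≤ (Fin.last n).castSucc}ᶜ := by
        ext x
        simp only [Set.mem_setOf_eq, Set.mem_compl_iff, not_le, Fin.castSucc_lt_iff_succ_le, Fin.succ_last, L]
        exact ⟨fun h => h.ge, fun h => le_antisymm (Fin.le_last _) h⟩
      rw [this]
      exact (hcl _).isOpen_compl⟩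
    obtain ⟨Z, ι, hι, hZ, hιa, hr⟩ := hs L
    haveI := hι; haveI := hZ; haveI := hιa
    obtain ⟨hUaff, hUι⟩ := affine_open_stratum ι U hr
    haveI := hUaff; haveI := hUι
    -- vanishing for modules supported off `U`
    have key : ∀ G : X.Modules, Coh.IsQCoh G → (∀ y : U, IsZero ((M1.stalkAb (U.ι y)).obj G)) →
        ∀ q, n < q → Subsingleton (Coh.HH X G q) := by
      intro G hG hGU q hq
      refine subsingleton_HH_of_ft_sub G hG q fun G' j hj hG' hFT => ?_
      obtain ⟨W, i, hi, hir, N, hN, ⟨e⟩⟩ := exists_closed_model hG' hFT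
      haveI := hi
      have hsup : ∀ w : W, s (i w) ≠ L := by
        intro w hw
        have hmem : i w ∈ CohB1.support G' := hir.le ⟨w, rfl⟩
        refine hmem ?_
        have hinj : Function.Injective ((M1.stalkAb (i w)).map j) := (M1.mono_iff_stalk j).mp hj _
        haveI : Subsingleton ((M1.stalkAb (i w)).obj G) :=
          AddCommGrpCat.subsingleton_of_isZero (hGU ⟨i w, hw⟩)
        exact hinj.subsingleton
      have hlt : ∀ w : W, (s (i w)).val < n + 1 := fun w => by
        have := Fin.val_lt_last (hsup w)
        exact this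
      refine subsingleton_HH_congr e q (subsingleton_HH_push i N hN q (ih W ?_ N hN q hq))
      refine ⟨fun w => ⟨(s (i w)).val, hlt w⟩, fun k => ?_, fun k => ?_⟩
      · have : {w : W | (⟨(s (i w)).val, hlt w⟩ : Fin (n + 1)) ≤ k} = i ⁻¹' {x | s x ≤ k.castSucc} := rfl
        rw [this]
        exact (hcl _).preimage i.continuous
      · obtain ⟨Zk, ιk, hιk, hZk, hιka, hrk⟩ := hs k.castSucc
        haveI := hιk; haveI := hZk; haveI := hιka
        haveI : IsClosedImmersion (pullback.fst ιk i) := MorphismProperty.pullback_fst _ _ hi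
        refine ⟨pullback ιk i, pullback.snd ιk i, MorphismProperty.pullback_snd _ _ hιk,
          isAffine_of_isAffineHom (pullback.fst ιk i), MorphismProperty.pullback_snd _ _ hιka, ?_⟩
        rw [Scheme.Pullback.range_snd, hrk]
        ext w
        simp [Fin.ext_iff]
    -- the sequence
    let j := U.ι
    let η := (Scheme.Modules.restrictAdjunction j).unit.app F
    have hres : Coh.IsQCoh (F.restrict j) :=
      (QCohCat.isQCoh (U : Scheme.{u})).prop_of_iso
        ((Scheme.Modules.restrictFunctorIsoPullback j).app F).symm (M1.isQCoh_pullback j hF)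
    have hF' : Coh.IsQCoh ((Scheme.Modules.pushforward j).obj (F.restrict j)) := M1.isQCoh_push j hres
    have hFK := M1.isQCoh_kernel hF hF' η
    have hFC := M1.isQCoh_cokernel hF hF' η
    have hK : Subsingleton (Coh.HH X (kernel η) p) :=
      key _ hFK (fun y => (stalk_kernel_coker_unit j F y).1) p (by omega)
    obtain ⟨q, rfl⟩ : ∃ q, p = q + 1 := ⟨p - 1, by omega⟩
    have hC : Subsingleton (Coh.HH X (cokernel η) q) :=
      key _ hFC (fun y => (stalk_kernel_coker_unit j F y).2) q (by omega)
    have hP : Subsingleton (Coh.HH X ((Scheme.Modules.pushforward j).obj (F.restrict j)) (q + 1)) := by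
      haveI : (F.restrict j).IsQuasicoherent := hres
      exact subsingleton_HH_push j _ hres _ (CohFound.subsingleton_HH_affine _ _ (by omega))
    rw [CohFound.subsingleton_HH_iff] at hK hC hP ⊢
    let S₁ : ShortComplex X.Modules := ShortComplex.mk (Abelian.image.ι η) (cokernel.π η) (kernel.condition _)
    have hS₁ : S₁.ShortExact :=
      { exact := ShortComplex.exact_of_f_is_kernel _ (kernelIsKernel (cokernel.π η)) }
    let S₂ : ShortComplex X.Modules :=
      ShortComplex.mk (kernel.ι η) (Abelian.factorThruImage η) (by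
        rw [← cancel_mono (Abelian.image.ι η), Category.assoc, Abelian.image.fac, kernel.condition, zero_comp])
    have hS₂ : S₂.ShortExact :=
      { exact := by
          refine ShortComplex.exact_of_f_is_kernel _ ?_
          exact (isKernelOfComp (Abelian.image.ι η) η (kernelIsKernel η)
            S₂.zero (Abelian.image.fac η)) }
    have hI : Subsingleton (CohFound.Hc ((CohFound.abF X).obj (Abelian.image η)) (q + 1) ⊤) := by
      refine subsingleton_of_forall_eq 0 fun x => ?_
      obtain ⟨c, rfl⟩ := CohFound.exact₁ (CohFound.shortExact_abF hS₁) q ⊤ x (@Subsingleton.elim _ hP _ _)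
      rw [@Subsingleton.elim _ hC c 0, map_zero]
    exact CohFound.subsingleton_hc_of_exact (CohFound.shortExact_abF hS₂) (q + 1) ⊤ hK hI

end Groth.Agent.AffStratVan4
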