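import Groth.Agent.Lib.CohMop.QCohVan
import Groth.Agent.Lib.ModM1.Ann
import Groth.Agent.Lib.ModM1.Coh
import Groth.Agent.Lib.ModM1.ClosedImm
import Groth.Agent.Lib.ModM1.FibreProd
import Groth.Agent.Lib.ModM1.Pull
import Groth.Agent.Lib.CohFound.AffMor
import Groth.Agent.Lib.CohFound.HHBridge
import Mathlib

/-!
# Vanishing of cohomology for quasi-coherent modules with support conditions
-/

set_option autoImplicit false
set_option linter.style.haveILetI false
set_option backward.isDefEq.respectTransparency false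
set_option backward.isDefEq.respectTransparency.types false

universe u

open CategoryTheory CategoryTheory.Limits AlgebraicGeometry TopologicalSpace

namespace Groth.Agent.AffStratVan4

open Groth.Agent QCoh8

variable {X : Scheme.{u}}

/-- Vanishing for a quasi-coherent module from vanishing for its finite type submodules. -/
theorem subsingleton_HH_of_ft_sub [CompactSpace X] [QuasiSeparatedSpace X] (G : X.Modules)
    (hG : Coh.IsQCoh G) (i : ℕ)
    (h : ∀ (F : X.Modules) (ι : F ⟶ G), Mono ι → Coh.IsQCoh F → CohB1.IsFT F →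
      Subsingleton (Coh.HH X F i)) :
    Subsingleton (Coh.HH X G i) := by
  let G' : QCohCat.QCoh X := ⟨G, hG⟩
  haveI := CohMop.nonempty_stageFT G'
  haveI := CohMop.directed_stageFT G'
  obtain ⟨hc⟩ := CohMop.nonempty_isColimit_ftCocone G'
  let hc' := isColimitOfPreserves (CohFound.abF X) hc
  let e := (colimit.isColimit (CohMop.ftDiag G' ⋙ CohFound.abF X)).coconePointUniqueUpToIso hc'
  show Subsingleton (Coh.HH X G'.obj i)
  rw [CohFound.subsingleton_HH_iff]
  refine subsingleton_of_forall_eq 0 fun ξ => ?_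
  obtain ⟨a, η, hη⟩ := (CohFound.colim_hc i (CohMop.ftDiag G' ⋙ CohFound.abF X) ⊤ isCompact_univ
    (isQuasiSeparated_univ_iff.2 inferInstance)).1 (CohFound.mp e.inv i ⊤ ξ)
  have ha := h ((CohMop.ftDiag G').obj a) ((CohMop.ftOver G').obj a).obj.hom
    ((CohMop.ftOver G').obj a).property (QCoh8.isQCoh_toSub _) a.sub.2
  rw [CohFound.subsingleton_HH_iff] at ha
  haveI := ha
  have hη0 : η = 0 := @Subsingleton.elim _ ha _ _
  have h2 : CohFound.mp e.inv i ⊤ ξ = 0 := by rw [← hη, hη0, map_zero]
  have h3 := congrArg (CohFound.mp e.hom i ⊤) h2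
  rw [← CohFound.mp_comp, e.inv_hom_id, CohFound.mp_id, map_zero] at h3
  exact h3

/-- Vanishing along affine morphisms. -/
theorem subsingleton_HH_push {Y : Scheme.{u}} (f : Y ⟶ X) [IsAffineHom f] (N : Y.Modules)
    (hN : Coh.IsQCoh N) (p : ℕ) (h : Subsingleton (Coh.HH Y N p)) :
    Subsingleton (Coh.HH X ((Scheme.Modules.pushforward f).obj N) p) := by
  haveI : N.IsQuasicoherent := hN
  rw [CohFound.subsingleton_HH_iff] at h ⊢
  obtain ⟨e⟩ := CohFound.nonempty_hc_push_isAffineHom f N p ⊤
  rw [Scheme.Hom.preimage_top] at e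
  exact @Equiv.subsingleton _ _ e.toEquiv h

/-- A finite type quasi-coherent module is the direct image of a module on a closed subscheme
supported on its support. -/
theorem exists_closed_model {M : X.Modules} (hM : Coh.IsQCoh M) (hFT : CohB1.IsFT M) :
    ∃ (Z : Scheme.{u}) (i : Z ⟶ X), IsClosedImmersion i ∧ Set.range i = CohB1.support M ∧
      ∃ N : Z.Modules, Coh.IsQCoh N ∧ Nonempty ((Scheme.Modules.pushforward i).obj N ≅ M) := by
  let J := M1.annSheaf hM hFT
  let i := J.subschemeι
  have hk : ∀ (U : X.affineOpens) (a : Γ(X, U.1)), a ∈ i.ker.ideal U → ∀ s : Γ(M, U.1), a • s = 0 :=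
    fun U a ha s => by
      rw [Scheme.IdealSheafData.ker_subschemeι, M1.annSheaf_ideal] at ha
      exact Module.mem_annihilator.1 ha s
  haveI := M1.isIso_unit_of_ker_smul i M hM hk
  exact ⟨J.subscheme, i, inferInstance,
    (Scheme.IdealSheafData.range_subschemeι J).trans (M1.support_annSheaf hM hFT),
    (Scheme.Modules.pullback i).obj M, M1.isQCoh_pullback i hM,
    ⟨(asIso ((Scheme.Modules.pullbackPushforwardAdjunction i).unit.app M)).symm⟩⟩

/-- The stalks of the kernel and cokernel of restriction to an open vanish on the open. -/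
theorem stalk_kernel_coker_unit {Y : Scheme.{u}} (j : Y ⟶ X) [IsOpenImmersion j] (M : X.Modules) (y : Y) :
    IsZero ((M1.stalkAb (j y)).obj (kernel ((Scheme.Modules.restrictAdjunction j).unit.app M))) ∧
    IsZero ((M1.stalkAb (j y)).obj (cokernel ((Scheme.Modules.restrictAdjunction j).unit.app M))) := by
  let η := (Scheme.Modules.restrictAdjunction j).unit.app M
  haveI := M1.isIso_restrict_unit j M
  haveI : IsIso ((M1.stalkAb (j y)).map η) :=
    ((MorphismProperty.isomorphisms AddCommGrpCat.{u}).arrow_mk_iso_iff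
      (((Functor.mapArrowFunctor _ _).mapIso (Scheme.Modules.restrictStalkNatIso j y)).app (Arrow.mk η))).mp
      (show IsIso ((Scheme.Modules.restrictFunctor j ⋙ M1.stalkAb y).map η) from
        Functor.map_isIso (M1.stalkAb y) ((Scheme.Modules.restrictFunctor j).map η))
  constructor
  · refine IsZero.of_mono_eq_zero ((M1.stalkAb (j y)).map (kernel.ι η)) ?_
    rw [← cancel_mono ((M1.stalkAb (j y)).map η), ← Functor.map_comp, kernel.condition,
      Functor.map_zero, zero_comp]
  · refine IsZero.of_epi_eq_zero ((M1.stalkAb (j y)).map (cokernel.π η)) ?_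
    haveI : Epi ((M1.stalkAb (j y)).map η) := IsIso.epi_of_iso _
    rw [← cancel_epi ((M1.stalkAb (j y)).map η), ← Functor.map_comp, cokernel.condition,
      Functor.map_zero, comp_zero]

end Groth.Agent.AffStratVan4
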